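import Cfsg.Agent.OmegaOrbits.Basic
import Cfsg.Agent.Spinor.StdForms

/-!
# The two families of maximal totally singular subspaces of the split form
-/

namespace CfsgLib.OmegaOrbits

open Matrix Module CfsgLib.Spinor CfsgLib.Forms

variable {F : Type*} [Field F] [Fintype F]

/-- The subspace `y = 0`. -/
abbrev baseLag (m : ℕ) (F : Type*) [Field F] : Submodule F (Fin m ⊕ Fin m → F) :=
  LinearMap.ker (LinearMap.funLeft F F (Sum.inr : Fin m → Fin m ⊕ Fin m))

theorem finrank_baseLag (m : ℕ) : finrank F (baseLag m F) = m := by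
  have h := LinearMap.finrank_range_add_finrank_ker (LinearMap.funLeft F F (Sum.inr : Fin m → Fin m ⊕ Fin m))
  rw [LinearMap.range_eq_top.2 (LinearMap.funLeft_surjective_of_injective F F _ Sum.inr_injective), finrank_top,
    finrank_fin_fun, finrank_fintype_fun_eq_card, Fintype.card_sum, Fintype.card_fin] at h
  show finrank F ↥(LinearMap.ker (LinearMap.funLeft F F (Sum.inr : Fin m → Fin m ⊕ Fin m))) = m
  omega

theorem plusQ_baseLag (m : ℕ) : ∀ u ∈ baseLag m F, StdForms.plusQ m F u = 0 := fun u hu => by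
  rw [StdForms.plusQ_apply]
  exact Finset.sum_eq_zero fun i _ => by
    rw [show u (Sum.inr i) = 0 from congrFun hu i, mul_zero]

theorem exception_plus {m : ℕ} (h : Fintype.card F ≠ 2 ∨ m ≠ 2) :
    Nat.card F ≠ 2 ∨ Fintype.card (Fin m ⊕ Fin m) ≠ 4 := by
  rw [Nat.card_eq_fintype_card, Fintype.card_sum, Fintype.card_fin]
  omega

theorem card_split (m : ℕ) : Fintype.card (Fin m ⊕ Fin m) = 2 * m := by simp [two_mul]

/-- Preserving the family of the base subspace is evenness of the number of reflections. -/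
theorem even_sub_iff (m : ℕ) (g : ↥(Cfsg.isometryGroup F ⇑(StdForms.plusQ m F)))
    {vs : List (Fin m ⊕ Fin m → F)} (hvs : IsReflProd (StdForms.plusQ m F) g vs) :
    Even (m - finrank F ↥(baseLag m F ⊓ gmap g (baseLag m F))) ↔ Even vs.length := by
  have h := even_finrank_inf_gmap (StdForms.plusQ_nondegenerate m) (card_split m) (finrank_baseLag m)
    (plusQ_baseLag m) (finrank_baseLag m) (plusQ_baseLag m) vs g hvs
  have hle := Submodule.finrank_mono (inf_le_left : baseLag m F ⊓ gmap g (baseLag m F) ≤ baseLag m F)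
  rw [finrank_baseLag] at hle
  rw [inf_idem, finrank_baseLag] at h
  rw [Nat.even_sub hle]
  simp only [Nat.even_add] at h
  tauto

theorem even_sub_iff_det (h2 : (2 : F) ≠ 0) (m : ℕ) (g : ↥(Cfsg.isometryGroup F ⇑(StdForms.plusQ m F))) :
    Even (m - finrank F ↥(baseLag m F ⊓ gmap g (baseLag m F))) ↔ (mat _ g).det = 1 := by
  obtain ⟨vs, hvs⟩ := exists_isReflProd h2 (StdForms.plusQ_nondegenerate m) g
  rw [even_sub_iff m g hvs, det_isReflProd hvs]
  exact (neg_one_pow_eq_one_iff_even fun h => h2 (by linear_combination -h)).symm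

theorem even_sub_iff_mem_omega [CharP F 2] {m : ℕ} (h : Fintype.card F ≠ 2 ∨ m ≠ 2)
    (g : ↥(Cfsg.isometryGroup F ⇑(StdForms.plusQ m F))) :
    Even (m - finrank F ↥(baseLag m F ⊓ gmap g (baseLag m F))) ↔
      g ∈ Cfsg.Omega F ⇑(StdForms.plusQ m F) := by
  obtain ⟨vs, hvs⟩ := exists_isReflProd_finite (StdForms.plusQ_nondegenerate m) (exception_plus h) g
  rw [even_sub_iff m g hvs, mem_omega_iff_even (StdForms.plusQ_nondegenerate m) (exception_plus h) hvs]
  exact ⟨fun e => ⟨e, FiniteField.isSquare_of_char_two (ringChar.eq F 2) _⟩, fun e => e.1⟩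

/-- `Ω` is transitive on each family. -/
theorem exists_omega_lag {m : ℕ} (hm : 1 ≤ m) (h : Fintype.card F ≠ 2 ∨ m ≠ 2)
    (U W : Submodule F (Fin m ⊕ Fin m → F)) (hU : finrank F U = m) (hW : finrank F W = m)
    (hU0 : ∀ u ∈ U, StdForms.plusQ m F u = 0) (hW0 : ∀ w ∈ W, StdForms.plusQ m F w = 0)
    (he : Even (m - finrank F ↥(U ⊓ W))) :
    ∃ g, g ∈ Cfsg.Omega F ⇑(StdForms.plusQ m F) ∧ gmap g U = W := by
  have hQ := StdForms.plusQ_nondegenerate (F := F) m
  obtain ⟨g₀, hg₀⟩ := exists_extend hQ (LinearEquiv.ofFinrankEq U W (hU.trans hW.symm))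
    (fun u => (hW0 _ (Subtype.property _)).trans (hU0 u u.2).symm)
  obtain ⟨vs, hvs⟩ := exists_isReflProd_finite hQ (exception_plus h) g₀
  have hev := even_finrank_inf_gmap hQ (card_split m) hU hU0 hU hU0 vs g₀ hvs
  rw [hg₀, inf_idem, hU] at hev
  have hle := Submodule.finrank_mono (inf_le_left : U ⊓ W ≤ U)
  rw [hU] at hle
  rw [Nat.even_sub hle] at he
  simp only [Nat.even_add] at hev
  refine exists_omega_gmap hQ (exception_plus h) hvs hg₀ (fun hodd => absurd (by tauto) hodd) fun c hc =>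
    exists_pair_of_singular hQ hU0 (fun hb => ?_) c hc
  rw [hb, finrank_bot] at hU
  omega

end CfsgLib.OmegaOrbits
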