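import Cfsg.Agent.Forms.OrthIndex
import Cfsg.Agent.Forms.OrthPerp
import Cfsg.Agent.Forms.OrthDet
import Cfsg.Agent.Forms.Witt

/-!
# Orbits of `Ω` on subspaces

`mem_omega_iff_even` (uniform criterion), `exists_extend` (Witt inside the isometry group),
`exists_omega_gmap` (adjust a move by a stabiliser), the parity of the intersection of two totally
singular subspaces of half the dimension (`even_finrank_inf_gmap`).
-/

namespace CfsgLib.OmegaOrbits

open Matrix Module CfsgLib.Spinor CfsgLib.Forms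

variable {F : Type*} [Field F] {ι : Type} [Fintype ι] [DecidableEq ι] {Q : QuadraticForm F (ι → F)}

/-- The image of a subspace under an isometry. -/
abbrev gmap (g : ↥(Cfsg.isometryGroup F ⇑Q)) (U : Submodule F (ι → F)) : Submodule F (ι → F) :=
  U.map (Matrix.mulVecLin (mat Q g))

theorem gmap_one (U : Submodule F (ι → F)) : gmap (Q := Q) 1 U = U := by
  rw [gmap, mat_one, mulVecLin_one, Submodule.map_id]

theorem gmap_mul (g h : ↥(Cfsg.isometryGroup F ⇑Q)) (U : Submodule F (ι → F)) :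
    gmap (g * h) U = gmap g (gmap h U) := by
  rw [gmap, mat_mul, mulVecLin_mul, Submodule.map_comp]

theorem mulVec_injective (g : ↥(Cfsg.isometryGroup F ⇑Q)) : Function.Injective (mulVecLin (mat Q g)) :=
  Function.LeftInverse.injective (g := mulVecLin (mat Q g⁻¹)) fun x => by
    rw [mulVecLin_apply, mulVecLin_apply, mulVec_mulVec, ← mat_mul, inv_mul_cancel, mat_one, one_mulVec]

theorem finrank_gmap (g : ↥(Cfsg.isometryGroup F ⇑Q)) (U : Submodule F (ι → F)) :
    finrank F (gmap g U) = finrank F U :=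
  LinearEquiv.finrank_eq (Submodule.equivMapOfInjective _ (mulVec_injective g) U).symm

theorem gmap_eq_of_le (g : ↥(Cfsg.isometryGroup F ⇑Q)) {U : Submodule F (ι → F)}
    (h : ∀ u ∈ U, mat Q g *ᵥ u ∈ U) : gmap g U = U :=
  Submodule.eq_of_le_of_finrank_eq (by rintro _ ⟨u, hu, rfl⟩; exact h u hu) (finrank_gmap g U)

theorem mat_reflIso_mulVec (v : ι → F) (hv : Q v ≠ 0) (x : ι → F) :
    mat Q (reflIso Q v hv) *ᵥ x = refl Q v x := by
  rw [mat_reflIso, reflectionMatrix_mulVec]

theorem gmap_reflIso_of_mem {U : Submodule F (ι → F)} {v : ι → F} (hv : Q v ≠ 0)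
    (h : ∀ u ∈ U, v ∈ U ∨ QuadraticMap.polar (⇑Q) v u = 0) : gmap (reflIso Q v hv) U = U := by
  refine gmap_eq_of_le _ fun u hu => ?_
  rw [mat_reflIso_mulVec, refl_apply]
  rcases h u hu with h | h
  · exact U.sub_mem hu (U.smul_mem _ h)
  · rw [h, mul_zero, zero_smul, sub_zero]; exact hu

/-- In every characteristic: membership of `Ω` by the parity and the spinor norm. -/
theorem mem_omega_iff_even [Fintype F] (hQ : (QuadraticMap.polarBilin Q).Nondegenerate)
    (hexc : Nat.card F ≠ 2 ∨ Fintype.card ι ≠ 4) {g : ↥(Cfsg.isometryGroup F ⇑Q)} {vs : List (ι → F)}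
    (h : IsReflProd Q g vs) :
    g ∈ Cfsg.Omega F ⇑Q ↔ Even vs.length ∧ IsSquare (vs.map fun v => Q v).prod := by
  by_cases h2 : (2 : F) = 0
  · haveI : CharP F 2 := CharTwo.of_one_ne_zero_of_two_eq_zero one_ne_zero h2
    rw [omega_eq_ker_charTwo hQ (exists_isReflProd_finite hQ hexc) hexc, MonoidHom.mem_ker,
      parityHom_eq hQ _ h, neg_one_pow_eq_one_iff_even (by decide)]
    exact ⟨fun e => ⟨e, FiniteField.isSquare_of_char_two (ringChar.eq F 2) _⟩, fun e => e.1⟩
  · exact mem_omega_iff h2 hQ h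

/-- Adjusting a move by elements fixing the source puts it in `Ω`. -/
theorem exists_omega_gmap [Fintype F] (hQ : (QuadraticMap.polarBilin Q).Nondegenerate)
    (hexc : Nat.card F ≠ 2 ∨ Fintype.card ι ≠ 4) {U W : Submodule F (ι → F)}
    {g₀ : ↥(Cfsg.isometryGroup F ⇑Q)} {vs : List (ι → F)} (hvs : IsReflProd Q g₀ vs)
    (hg₀ : gmap g₀ U = W)
    (hodd : ¬ Even vs.length → ∃ v, ∃ hv : Q v ≠ 0, gmap (reflIso Q v hv) U = U)
    (hpair : ∀ c : F, c ≠ 0 → ∃ a b, ∃ ha : Q a ≠ 0, ∃ hb : Q b ≠ 0,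
      Q a * Q b = c ∧ gmap (reflIso Q a ha * reflIso Q b hb) U = U) :
    ∃ g : ↥(Cfsg.isometryGroup F ⇑Q), g ∈ Cfsg.Omega F ⇑Q ∧ gmap g U = W := by
  obtain ⟨g₁, ws, hws, hg₁, he⟩ : ∃ g₁ ws, IsReflProd Q g₁ ws ∧ gmap g₁ U = W ∧ Even ws.length := by
    by_cases he : Even vs.length
    · exact ⟨g₀, vs, hvs, hg₀, he⟩
    · obtain ⟨v, hv, hst⟩ := hodd he
      exact ⟨_, _, hvs.mul (IsReflProd.reflIso v hv), by rw [gmap_mul, hst, hg₀],
        by simp [Nat.even_add_one, he]⟩
  have hP : (ws.map fun v => Q v).prod ≠ 0 := prod_quad_ne_zero hws.1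
  obtain ⟨a, b, ha, hb, hab, hst⟩ := hpair _ hP
  refine ⟨g₁ * (reflIso Q a ha * reflIso Q b hb), ?_, by rw [gmap_mul, hst, hg₁]⟩
  refine (mem_omega_iff_even hQ hexc
    (hws.mul ((IsReflProd.reflIso a ha).mul (IsReflProd.reflIso b hb)))).2 ⟨?_, ?_⟩
  · simp [Nat.even_add, he]
  · rw [List.map_append, List.prod_append]
    exact ⟨(ws.map fun v => Q v).prod, by simp [hab]⟩

/-- Witt's theorem inside the isometry group. -/
theorem exists_extend (hQ : (QuadraticMap.polarBilin Q).Nondegenerate) {U W : Submodule F (ι → F)}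
    (e : U ≃ₗ[F] W) (he : ∀ u : U, Q (e u : ι → F) = Q (u : ι → F)) :
    ∃ g : ↥(Cfsg.isometryGroup F ⇑Q), gmap g U = W := by
  obtain ⟨f, hf, hfe⟩ := witt_quadratic Q hQ U W e he
  refine ⟨⟨⟨LinearMap.toMatrix' f.toLinearMap, LinearMap.toMatrix' f.symm.toLinearMap,
    by rw [← LinearMap.toMatrix'_comp]; simp, by rw [← LinearMap.toMatrix'_comp]; simp⟩,
    fun x _ => ?_⟩, ?_⟩
  · show Q (LinearMap.toMatrix' f.toLinearMap *ᵥ x) = Q x
    rw [LinearMap.toMatrix'_mulVec]; exact hf x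
  · show U.map (Matrix.mulVecLin (LinearMap.toMatrix' f.toLinearMap)) = W
    ext w
    simp only [Submodule.mem_map, mulVecLin_apply, LinearMap.toMatrix'_mulVec, LinearEquiv.coe_coe]
    refine ⟨?_, fun hw => ⟨(e.symm ⟨w, hw⟩ : U), (e.symm ⟨w, hw⟩).2, by rw [hfe, LinearEquiv.apply_symm_apply]⟩⟩
    rintro ⟨u, hu, rfl⟩
    rw [hfe ⟨u, hu⟩]; exact (e ⟨u, hu⟩).2

theorem polar_eq_zero_of_singular {U : Submodule F (ι → F)} (hU : ∀ u ∈ U, Q u = 0) {u v : ι → F}
    (hu : u ∈ U) (hv : v ∈ U) : QuadraticMap.polar (⇑Q) u v = 0 := by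
  simp [QuadraticMap.polar, hU _ hu, hU _ hv, hU _ (U.add_mem hu hv)]

theorem sep_of_nondegenerate (hQ : (QuadraticMap.polarBilin Q).Nondegenerate) :
    ∀ x, (∀ y, QuadraticMap.polar (⇑Q) x y = 0) → x = 0 := fun x h => hQ.1 x h

/-- Stabilising pairs of reflections of a nonzero totally singular subspace. -/
theorem exists_pair_of_singular (hQ : (QuadraticMap.polarBilin Q).Nondegenerate)
    {U : Submodule F (ι → F)} (hU : ∀ u ∈ U, Q u = 0) (hne : U ≠ ⊥) (c : F) (hc : c ≠ 0) :
    ∃ a b, ∃ ha : Q a ≠ 0, ∃ hb : Q b ≠ 0,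
      Q a * Q b = c ∧ gmap (reflIso Q a ha * reflIso Q b hb) U = U := by
  obtain ⟨e, he, he0⟩ := Submodule.exists_mem_ne_zero_of_ne_bot hne
  obtain ⟨f, hf, hef⟩ := exists_hyperbolic_partner Q (sep_of_nondegenerate hQ) he0 (hU e he)
  have hqe := hU e he
  have hee : QuadraticMap.polar (⇑Q) e e = 0 := polar_eq_zero_of_singular hU he he
  have hff : QuadraticMap.polar (⇑Q) f f = 0 := by rw [QuadraticMap.polar_self, hf]; simp
  have hfe : QuadraticMap.polar (⇑Q) f e = 1 := by rw [QuadraticMap.polar_comm, hef]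
  have hqa : Q (e + f) = 1 := by rw [QuadraticMap.map_add (⇑Q), hqe, hf, hef]; ring
  have hqb : Q (e + c • f) = c := by
    rw [QuadraticMap.map_add (⇑Q), QuadraticMap.map_smul, hqe, hf, QuadraticMap.polar_smul_right, hef]
    simp
  refine ⟨e + f, e + c • f, by rw [hqa]; exact one_ne_zero, by rw [hqb]; exact hc, by rw [hqa, hqb, one_mul],
    gmap_eq_of_le _ fun u hu => ?_⟩
  rw [mat_mul, ← mulVec_mulVec, mat_reflIso_mulVec, mat_reflIso_mulVec]
  have heu : QuadraticMap.polar (⇑Q) e u = 0 := polar_eq_zero_of_singular hU he hu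
  have hmove : refl Q (e + f) (refl Q (e + c • f) u) =
      u + ((c - 1) * QuadraticMap.polar (⇑Q) f u) • e := by
    simp only [refl_apply, hqa, hqb, QuadraticMap.polar_add_left, QuadraticMap.polar_smul_left,
      QuadraticMap.polar_sub_right, QuadraticMap.polar_smul_right, QuadraticMap.polar_add_right,
      hee, hef, hfe, hff, heu, inv_one, smul_eq_mul]
    match_scalars <;> field_simp <;> ring
  rw [hmove]
  exact U.add_mem hu (U.smul_mem _ he)

/-- A subspace with nondegenerate polar form takes every nonzero value once its dimension is two, and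
in characteristic two once it is nonzero. -/
theorem exists_value_mem [Finite F] {X : Submodule F (ι → F)}
    (hX : X ⊓ LinearMap.BilinForm.orthogonal (QuadraticMap.polarBilin Q) X = ⊥)
    (hd : 2 ≤ finrank F X) (c : F) (hc : c ≠ 0) : ∃ v ∈ X, Q v = c := by
  have hsep : ∀ x : X, (∀ y : X, QuadraticMap.polar (⇑(Q.comp X.subtype)) x y = 0) → x = 0 := by
    intro x hx
    refine Subtype.ext ((Submodule.eq_bot_iff _).1 hX x ⟨x.2, fun y hy => ?_⟩)
    show QuadraticMap.polar (⇑Q) y x = 0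
    rw [QuadraticMap.polar_comm]
    exact hx ⟨y, hy⟩
  by_cases h2 : (2 : F) = 0
  · haveI : CharP F 2 := CharTwo.of_one_ne_zero_of_two_eq_zero one_ne_zero h2
    obtain ⟨v, hv⟩ : ∃ v : X, Q (v : ι → F) ≠ 0 := by
      by_contra h
      haveI : Subsingleton X := subsingleton_of_forall_eq 0 fun x => hsep x fun y => by
        have hz : ∀ z : X, Q (z : ι → F) = 0 := fun z => not_not.1 fun hz => h ⟨z, hz⟩
        simpa [QuadraticMap.polar, hz] using hz (x + y)
      rw [Module.finrank_zero_of_subsingleton] at hd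
      omega
    obtain ⟨s, hs⟩ := FiniteField.isSquare_of_char_two (ringChar.eq F 2) (c / Q (v : ι → F))
    exact ⟨s • (v : ι → F), X.smul_mem _ v.2, by
      rw [QuadraticMap.map_smul, smul_eq_mul, ← hs, div_mul_cancel₀ _ hv]⟩
  · obtain ⟨z, hz⟩ := exists_quad_value h2 (Q.comp X.subtype) hsep hd c
    exact ⟨z, z.2, hz⟩

/-- A reflection changes the parity of the intersection of totally singular subspaces of half the dimension. -/
theorem finrank_inf_gmap_refl (hQ : (QuadraticMap.polarBilin Q).Nondegenerate) {m : ℕ}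
    (hm : Fintype.card ι = 2 * m) {W U : Submodule F (ι → F)} (hW : finrank F W = m) (hW0 : ∀ w ∈ W, Q w = 0)
    (hU : finrank F U = m) (hU0 : ∀ u ∈ U, Q u = 0) (v : ι → F) (hv : Q v ≠ 0) :
    Odd (finrank F ↥(W ⊓ gmap (reflIso Q v hv) U) + finrank F ↥(W ⊓ U)) := by
  have hrefl : LinearMap.BilinForm.IsRefl (QuadraticMap.polarBilin Q) := fun x y h => by
    simpa [QuadraticMap.polar_comm] using h
  have hdim : ∀ S : Submodule F (ι → F),
      finrank F ↥(LinearMap.BilinForm.orthogonal (QuadraticMap.polarBilin Q) S) = 2 * m - finrank F S := by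
    intro S
    rw [LinearMap.BilinForm.finrank_orthogonal hQ, finrank_fintype_fun_eq_card, hm]
  have hself : ∀ {S : Submodule F (ι → F)}, finrank F S = m → (∀ s ∈ S, Q s = 0) →
      LinearMap.BilinForm.orthogonal (QuadraticMap.polarBilin Q) S = S := fun {S} hS hS0 =>
    (Submodule.eq_of_le_of_finrank_le
      (S₂ := LinearMap.BilinForm.orthogonal (QuadraticMap.polarBilin Q) S)
      (fun x hx y hy => polar_eq_zero_of_singular hS0 hy hx) (by rw [hdim, hS]; omega)).symm
  obtain ⟨e, he, hev⟩ : ∃ e ∈ U, QuadraticMap.polar (⇑Q) v e ≠ 0 := by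
    by_contra h
    have : v ∈ U := by
      rw [← hself hU hU0]
      intro u hu
      show QuadraticMap.polar (⇑Q) u v = 0
      rw [QuadraticMap.polar_comm]
      exact not_not.1 fun hne => h ⟨u, hu, hne⟩
    exact hv (hU0 v this)
  set U' := gmap (reflIso Q v hv) U with hU'
  set e' := refl Q v e with he'
  have he'mem : e' ∈ U' := ⟨e, he, by rw [mulVecLin_apply, mat_reflIso_mulVec]⟩
  have hU'0 : ∀ u ∈ U', Q u = 0 := by
    rintro _ ⟨u, hu, rfl⟩
    rw [mulVecLin_apply, quad_mulVec]; exact hU0 u hu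
  set U0 := U ⊓ LinearMap.ker (QuadraticMap.polarBilin Q v) with hU0def
  have hdecomp : ∀ u ∈ U, u - (QuadraticMap.polar (⇑Q) v u / QuadraticMap.polar (⇑Q) v e) • e ∈ U0 := by
    intro u hu
    refine ⟨U.sub_mem hu (U.smul_mem _ he), ?_⟩
    show QuadraticMap.polar (⇑Q) v _ = 0
    rw [QuadraticMap.polar_sub_right, QuadraticMap.polar_smul_right, smul_eq_mul, div_mul_cancel₀ _ hev, sub_self]
  have hinter : U ⊓ U' = U0 := by
    refine le_antisymm ?_ fun u hu => ⟨hu.1, u, hu.1, ?_⟩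
    · rintro x ⟨hx, u, hu, rfl⟩
      rw [mulVecLin_apply, mat_reflIso_mulVec] at hx ⊢
      have hvU : ((Q v)⁻¹ * QuadraticMap.polar (⇑Q) v u) • v ∈ U := by
        have := U.sub_mem hu hx
        rwa [refl_apply, sub_sub_cancel] at this
      by_cases hp : QuadraticMap.polar (⇑Q) v u = 0
      · rw [refl_apply, hp, mul_zero, zero_smul, sub_zero]; exact ⟨hu, hp⟩
      · exact absurd (hU0 v ((U.smul_mem_iff (mul_ne_zero (inv_ne_zero hv) hp)).1 hvU)) hv
    · rw [mulVecLin_apply, mat_reflIso_mulVec, refl_apply, show QuadraticMap.polar (⇑Q) v u = 0 from hu.2,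
        mul_zero, zero_smul, sub_zero]
  have hU0dim : finrank F U0 + 1 = m := by
    have h1 : U0 ⊔ F ∙ e = U := by
      refine le_antisymm (sup_le inf_le_left ((Submodule.span_singleton_le_iff_mem _ _).2 he)) fun u hu => ?_
      rw [← sub_add_cancel u ((QuadraticMap.polar (⇑Q) v u / QuadraticMap.polar (⇑Q) v e) • e)]
      exact Submodule.add_mem_sup (hdecomp u hu) (Submodule.smul_mem _ _ (Submodule.mem_span_singleton_self e))
    have h2 := Submodule.finrank_sup_add_finrank_inf_eq U0 (F ∙ e)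
    rw [h1, hU, disjoint_iff.1 (Submodule.disjoint_span_singleton_of_notMem fun h : e ∈ U0 => hev h.2),
      finrank_bot, add_zero, finrank_span_singleton (fun h => hev (by rw [h]; simp))] at h2
    omega
  have hee' : QuadraticMap.polar (⇑Q) e e' ≠ 0 := by
    rw [he', refl_apply, QuadraticMap.polar_sub_right, QuadraticMap.polar_smul_right,
      polar_eq_zero_of_singular hU0 he he, QuadraticMap.polar_comm (⇑Q) e v, zero_sub, smul_eq_mul, neg_ne_zero]
    exact mul_ne_zero (mul_ne_zero (inv_ne_zero hv) hev) hev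
  -- the perp of the common hyperplane
  have hperp : LinearMap.BilinForm.orthogonal (QuadraticMap.polarBilin Q) U0 = U ⊔ F ∙ e' := by
    symm
    refine Submodule.eq_of_le_of_finrank_le (sup_le ?_ ((Submodule.span_singleton_le_iff_mem _ _).2 ?_)) ?_
    · exact fun u hu y hy => polar_eq_zero_of_singular hU0 hy.1 hu
    · exact fun y hy => polar_eq_zero_of_singular hU'0 (hinter.symm ▸ hy : y ∈ U ⊓ U').2 he'mem
    · have hnot : e' ∉ U := fun h => hee' (polar_eq_zero_of_singular hU0 he h)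
      have h2 := Submodule.finrank_sup_add_finrank_inf_eq U (F ∙ e')
      rw [disjoint_iff.1 (Submodule.disjoint_span_singleton_of_notMem hnot), finrank_bot, hU,
        finrank_span_singleton (fun h => hnot (by rw [h]; exact U.zero_mem)), add_zero] at h2
      rw [hdim, h2]
      omega
  set P := W ⊓ LinearMap.BilinForm.orthogonal (QuadraticMap.polarBilin Q) U0 with hP
  have hPdim : finrank F P = finrank F ↥(W ⊓ U0) + 1 := by
    have h1 := Submodule.finrank_sup_add_finrank_inf_eq W (LinearMap.BilinForm.orthogonal (QuadraticMap.polarBilin Q) U0)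
    have h2 : LinearMap.BilinForm.orthogonal (QuadraticMap.polarBilin Q) (W ⊓ U0) =
        W ⊔ LinearMap.BilinForm.orthogonal (QuadraticMap.polarBilin Q) U0 := by
      symm
      have e1 : LinearMap.BilinForm.orthogonal (QuadraticMap.polarBilin Q)
          (W ⊔ LinearMap.BilinForm.orthogonal (QuadraticMap.polarBilin Q) U0) = W ⊓ U0 := by
        conv_rhs => rw [← hself hW hW0, ← LinearMap.BilinForm.orthogonal_orthogonal hQ hrefl U0]
        ext x
        simp only [Submodule.mem_inf, LinearMap.BilinForm.mem_orthogonal_iff]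
        refine ⟨fun h => ⟨fun y hy => h y (Submodule.mem_sup_left hy), fun y hy => h y (Submodule.mem_sup_right hy)⟩, ?_⟩
        rintro ⟨h1, h2⟩ y hy
        obtain ⟨a, ha, b, hb, rfl⟩ := Submodule.mem_sup.1 hy
        show QuadraticMap.polar (⇑Q) (a + b) x = 0
        rw [QuadraticMap.polar_add_left, show QuadraticMap.polar (⇑Q) a x = 0 from h1 a ha,
          show QuadraticMap.polar (⇑Q) b x = 0 from h2 b hb, add_zero]
      rw [← e1, LinearMap.BilinForm.orthogonal_orthogonal hQ hrefl]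
    have h3 := hdim (W ⊓ U0)
    have h4 := Submodule.finrank_mono (inf_le_right : W ⊓ U0 ≤ U0)
    rw [h2] at h3
    rw [hW, hdim, ← hP] at h1
    omega
  obtain ⟨w, hwP, hwU0⟩ : ∃ w ∈ P, w ∉ U0 := by
    by_contra h
    have : P ≤ W ⊓ U0 := fun x hx => ⟨hx.1, not_not.1 fun hn => h ⟨x, hx, hn⟩⟩
    have := Submodule.finrank_mono this
    omega
  have hsingle : w ∈ U ∨ w ∈ U' := by
    obtain ⟨u, hu, z, hz, hw⟩ := Submodule.mem_sup.1 (hperp ▸ hwP.2 : w ∈ U ⊔ F ∙ e')
    obtain ⟨t, rfl⟩ := Submodule.mem_span_singleton.1 hz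
    have hz0 : u - (QuadraticMap.polar (⇑Q) v u / QuadraticMap.polar (⇑Q) v e) • e ∈ U ⊓ U' :=
      hinter.symm ▸ hdecomp u hu
    set s := QuadraticMap.polar (⇑Q) v u / QuadraticMap.polar (⇑Q) v e
    have hwq : Q w = s * t * QuadraticMap.polar (⇑Q) e e' := by
      have hz2 : QuadraticMap.polar (⇑Q) (u - s • e) e' = 0 := polar_eq_zero_of_singular hU'0 hz0.2 he'mem
      rw [QuadraticMap.polar_sub_left, QuadraticMap.polar_smul_left, smul_eq_mul, sub_eq_zero] at hz2
      rw [← hw, QuadraticMap.map_add (⇑Q), QuadraticMap.map_smul, hU0 u hu, hU'0 e' he'mem,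
        QuadraticMap.polar_smul_right, hz2]
      simp only [smul_eq_mul]
      ring
    rw [hW0 w hwP.1, eq_comm, mul_eq_zero, mul_eq_zero, or_iff_left hee'] at hwq
    rcases hwq with h | h
    · right
      rw [h, zero_smul, sub_zero] at hz0
      rw [← hw]
      exact U'.add_mem hz0.2 (U'.smul_mem _ he'mem)
    · left
      rw [← hw, h, zero_smul, add_zero]; exact hu
  have key : ∀ A B : Submodule F (ι → F), A ⊓ B = U0 →
      A ≤ LinearMap.BilinForm.orthogonal (QuadraticMap.polarBilin Q) U0 → w ∈ A →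
      finrank F ↥(W ⊓ A) = finrank F ↥(W ⊓ U0) + 1 ∧
        (B ≤ LinearMap.BilinForm.orthogonal (QuadraticMap.polarBilin Q) U0 →
          finrank F ↥(W ⊓ B) = finrank F ↥(W ⊓ U0)) := by
    intro A B hAB hA hwA
    have hAP : W ⊓ A = P := by
      refine Submodule.eq_of_le_of_finrank_le (inf_le_inf_left W hA) ?_
      have : W ⊓ U0 < W ⊓ A := lt_of_le_of_ne (inf_le_inf_left W (hAB ▸ inf_le_left))
        fun h => hwU0 (h.symm ▸ (⟨hwP.1, hwA⟩ : w ∈ W ⊓ A) : w ∈ W ⊓ U0).2
      have := Submodule.finrank_lt_finrank_of_lt this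
      omega
    refine ⟨by rw [hAP, hPdim], fun hB => ?_⟩
    refine congrArg (fun S : Submodule F (ι → F) => finrank F S) ?_
    refine le_antisymm (fun x hx => ⟨hx.1, hAB ▸ ⟨?_, hx.2⟩⟩) (inf_le_inf_left W (hAB ▸ inf_le_right))
    exact (hAP.symm ▸ (⟨hx.1, hB hx.2⟩ : x ∈ P) : x ∈ W ⊓ A).2
  have hUle : U ≤ LinearMap.BilinForm.orthogonal (QuadraticMap.polarBilin Q) U0 := hperp ▸ le_sup_left
  have hU'le : U' ≤ LinearMap.BilinForm.orthogonal (QuadraticMap.polarBilin Q) U0 := fun x hx y hy =>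
    polar_eq_zero_of_singular hU'0 (hinter.symm ▸ hy : y ∈ U ⊓ U').2 hx
  rcases hsingle with h | h
  · obtain ⟨h1, h2⟩ := key U U' hinter hUle h
    rw [h1, h2 hU'le]
    exact ⟨finrank F ↥(W ⊓ U0), by omega⟩
  · obtain ⟨h1, h2⟩ := key U' U (inf_comm U U' ▸ hinter) hU'le h
    rw [h1, h2 hUle]
    exact ⟨finrank F ↥(W ⊓ U0), by omega⟩

/-- The parity of a product of reflections, read on intersections. -/
theorem even_finrank_inf_gmap (hQ : (QuadraticMap.polarBilin Q).Nondegenerate) {m : ℕ}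
    (hm : Fintype.card ι = 2 * m) {W U : Submodule F (ι → F)} (hW : finrank F W = m) (hW0 : ∀ w ∈ W, Q w = 0)
    (hU : finrank F U = m) (hU0 : ∀ u ∈ U, Q u = 0) :
    ∀ (vs : List (ι → F)) (g : ↥(Cfsg.isometryGroup F ⇑Q)), IsReflProd Q g vs →
      Even (finrank F ↥(W ⊓ gmap g U) + finrank F ↥(W ⊓ U) + vs.length) := by
  intro vs
  induction vs with
  | nil =>
    intro g hg
    rw [show g = 1 from mat_ext Q hg.2, gmap_one]
    simp
  | cons v vs ih =>
    intro g hg
    have hv := hg.1 v List.mem_cons_self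
    have hg' : IsReflProd Q (reflIso Q v hv * g) vs := by
      refine ⟨fun w hw => hg.1 w (List.mem_cons_of_mem _ hw), ?_⟩
      rw [mat_mul, hg.2, List.map_cons, List.prod_cons, ← mul_assoc, mat_reflIso,
        reflectionMatrix_mul_self Q hv, one_mul]
    have hgg : g = reflIso Q v hv * (reflIso Q v hv * g) := by
      rw [← mul_assoc, show reflIso Q v hv * reflIso Q v hv = 1 from
        mat_ext Q (reflectionMatrix_mul_self Q hv), one_mul]
    have h := ih _ hg'
    set g' := reflIso Q v hv * g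
    have hm' := finrank_inf_gmap_refl hQ hm hW hW0 (U := gmap g' U) (by rw [finrank_gmap, hU])
      (by rintro _ ⟨u, hu, rfl⟩; rw [mulVecLin_apply, quad_mulVec]; exact hU0 u hu) v hv
    rw [← gmap_mul, ← hgg] at hm'
    rw [List.length_cons]
    obtain ⟨a, ha⟩ := h
    obtain ⟨b, hb⟩ := hm'
    exact ⟨a + b + 1 - finrank F ↥(W ⊓ gmap g' U), by omega⟩

end CfsgLib.OmegaOrbits
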