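import Cfsg.Agent.OmegaOrbits.Basic

/-!
# `Ω` of an orthogonal direct sum
-/

namespace CfsgLib.OmegaOrbits

open Matrix Module CfsgLib.Spinor CfsgLib.Forms

variable {F : Type*} [Field F] {k l : ℕ} (Q₁ : QuadraticForm F (Fin k → F)) (Q₂ : QuadraticForm F (Fin l → F))

/-- The orthogonal sum. -/
noncomputable def sumQ : QuadraticForm F (Fin k ⊕ Fin l → F) :=
  Q₁.comp (LinearMap.funLeft F F Sum.inl) + Q₂.comp (LinearMap.funLeft F F Sum.inr)

theorem sumQ_apply (v : Fin k ⊕ Fin l → F) : sumQ Q₁ Q₂ v = Q₁ (v ∘ Sum.inl) + Q₂ (v ∘ Sum.inr) := rfl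

theorem coe_sumQ : ⇑(sumQ Q₁ Q₂) = fun v : Fin k ⊕ Fin l → F => Q₁ (v ∘ Sum.inl) + Q₂ (v ∘ Sum.inr) := rfl

/-- A vector of the first summand. -/
def inL (v : Fin k → F) : Fin k ⊕ Fin l → F := Sum.elim v 0

theorem sumQ_inL (v : Fin k → F) : sumQ Q₁ Q₂ (inL v) = Q₁ v := by
  rw [sumQ_apply, inL, Sum.elim_comp_inl, Sum.elim_comp_inr, map_zero, add_zero]

theorem polar_sumQ (x y : Fin k ⊕ Fin l → F) : QuadraticMap.polar (⇑(sumQ Q₁ Q₂)) x y =
    QuadraticMap.polar (⇑Q₁) (x ∘ Sum.inl) (y ∘ Sum.inl) + QuadraticMap.polar (⇑Q₂) (x ∘ Sum.inr) (y ∘ Sum.inr) := by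
  simp only [QuadraticMap.polar, sumQ_apply]
  rw [show (x + y) ∘ Sum.inl = x ∘ Sum.inl + y ∘ Sum.inl from rfl,
    show (x + y) ∘ Sum.inr = x ∘ Sum.inr + y ∘ Sum.inr from rfl]
  ring

theorem polar_inL (v : Fin k → F) (x : Fin k ⊕ Fin l → F) :
    QuadraticMap.polar (⇑(sumQ Q₁ Q₂)) (inL v) x = QuadraticMap.polar (⇑Q₁) v (x ∘ Sum.inl) := by
  rw [polar_sumQ, inL, Sum.elim_comp_inl, Sum.elim_comp_inr, QuadraticMap.polar_zero_left, add_zero]

theorem sumQ_nondegenerate {Q₁ : QuadraticForm F (Fin k → F)} {Q₂ : QuadraticForm F (Fin l → F)}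
    (h₁ : (QuadraticMap.polarBilin Q₁).Nondegenerate) (h₂ : (QuadraticMap.polarBilin Q₂).Nondegenerate) :
    (QuadraticMap.polarBilin (sumQ Q₁ Q₂)).Nondegenerate := by
  have key : ∀ x, (∀ y, QuadraticMap.polar (⇑(sumQ Q₁ Q₂)) x y = 0) → x = 0 := by
    intro x hx
    have e1 : x ∘ Sum.inl = 0 := h₁.1 _ fun y => by
      have := hx (Sum.elim y 0)
      rw [polar_sumQ, Sum.elim_comp_inl, Sum.elim_comp_inr, QuadraticMap.polar_zero_right, add_zero] at this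
      exact this
    have e2 : x ∘ Sum.inr = 0 := h₂.1 _ fun y => by
      have := hx (Sum.elim 0 y)
      rw [polar_sumQ, Sum.elim_comp_inl, Sum.elim_comp_inr, QuadraticMap.polar_zero_right, zero_add] at this
      exact this
    funext i
    cases i with
    | inl a => exact congrFun e1 a
    | inr b => exact congrFun e2 b
  exact ⟨key, fun y hy => key y fun x => (QuadraticMap.polar_comm _ _ _).trans (hy x)⟩

theorem reflectionMatrix_inL (v : Fin k → F) :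
    Cfsg.reflectionMatrix (⇑(sumQ Q₁ Q₂)) (inL v) =
      Matrix.fromBlocks (Cfsg.reflectionMatrix (⇑Q₁) v) 0 0 1 := by
  refine Matrix.ext_of_mulVec_single fun i => ?_
  generalize (Pi.single i 1 : Fin k ⊕ Fin l → F) = x
  rw [reflectionMatrix_mulVec, fromBlocks_mulVec, refl_apply, polar_inL, sumQ_inL]
  funext j
  cases j with
  | inl a => simp [inL, reflectionMatrix_mulVec, refl_apply]
  | inr b => simp [inL]

theorem prod_inL : ∀ vs : List (Fin k → F),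
    ((vs.map inL).map fun v => Cfsg.reflectionMatrix (⇑(sumQ Q₁ Q₂)) v).prod =
      Matrix.fromBlocks (vs.map fun v => Cfsg.reflectionMatrix (⇑Q₁) v).prod 0 0 1
  | [] => by simp [fromBlocks_one]
  | v :: vs => by
    simp only [List.map_cons, List.prod_cons, prod_inL vs, reflectionMatrix_inL, fromBlocks_multiply,
      Matrix.mul_zero, Matrix.zero_mul, add_zero, zero_add, Matrix.mul_one]

variable [Fintype F]

/-- An isometry of a summand lies in `Ω` of the sum exactly when it lies in `Ω` of the summand. -/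
theorem exists_block_mem_omega_iff (h : Fintype.card F ≠ 2 ∨ (k ≠ 4 ∧ k + l ≠ 4))
    (h₁ : (QuadraticMap.polarBilin Q₁).Nondegenerate) (h₂ : (QuadraticMap.polarBilin Q₂).Nondegenerate)
    (g₁ : ↥(Cfsg.isometryGroup F ⇑Q₁)) :
    (∃ g : ↥(Cfsg.isometryGroup F ⇑(sumQ Q₁ Q₂)), g ∈ Cfsg.Omega F ⇑(sumQ Q₁ Q₂) ∧
      mat _ g = Matrix.fromBlocks (mat _ g₁) 0 0 1) ↔ g₁ ∈ Cfsg.Omega F ⇑Q₁ := by
  have e1 : Nat.card F ≠ 2 ∨ Fintype.card (Fin k) ≠ 4 := by
    rw [Nat.card_eq_fintype_card, Fintype.card_fin]; tauto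
  have e2 : Nat.card F ≠ 2 ∨ Fintype.card (Fin k ⊕ Fin l) ≠ 4 := by
    rw [Nat.card_eq_fintype_card, Fintype.card_sum, Fintype.card_fin, Fintype.card_fin]; tauto
  obtain ⟨vs, hvs⟩ := exists_isReflProd_finite h₁ e1 g₁
  have hne : ∀ v ∈ vs.map (inL (l := l)), sumQ Q₁ Q₂ v ≠ 0 := by
    intro v hv
    obtain ⟨u, hu, rfl⟩ := List.mem_map.1 hv
    rw [sumQ_inL]; exact hvs.1 u hu
  have hQ := sumQ_nondegenerate h₁ h₂
  rw [mem_omega_iff_even h₁ e1 hvs]
  have hprod : ((vs.map (inL (l := l))).map fun v => sumQ Q₁ Q₂ v).prod = (vs.map fun v => Q₁ v).prod := by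
    rw [List.map_map]
    exact congrArg List.prod (List.map_congr_left fun u _ => sumQ_inL Q₁ Q₂ u)
  have hlen : (vs.map (inL (l := l))).length = vs.length := List.length_map _
  constructor
  · rintro ⟨g, hg, hmat⟩
    have hg' : IsReflProd (sumQ Q₁ Q₂) g (vs.map inL) := ⟨hne, by rw [hmat, prod_inL, hvs.2]⟩
    rwa [mem_omega_iff_even hQ e2 hg', hprod, hlen] at hg
  · intro hh
    obtain ⟨g, hg⟩ := exists_isometry_of_prod (Q := sumQ Q₁ Q₂) (vs.map inL) hne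
    refine ⟨g, (mem_omega_iff_even hQ e2 hg).2 (by rwa [hprod, hlen]), ?_⟩
    rw [hg.2, prod_inL, hvs.2]

/-- The diagonal element lies in `Ω` of the doubled space. -/
theorem exists_diag_mem_omega {k : ℕ} (Q : QuadraticForm F (Fin k → F))
    (hQ : (QuadraticMap.polarBilin Q).Nondegenerate) (h : Fintype.card F ≠ 2 ∨ k ≠ 2)
    (g : ↥(Cfsg.isometryGroup F ⇑Q)) :
    ∃ x : ↥(Cfsg.isometryGroup F ⇑(sumQ Q Q)), x ∈ Cfsg.Omega F ⇑(sumQ Q Q) ∧
      mat _ x = Matrix.fromBlocks (mat _ g) 0 0 (mat _ g) := by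
  have e2 : Nat.card F ≠ 2 ∨ Fintype.card (Fin k ⊕ Fin k) ≠ 4 := by
    rw [Nat.card_eq_fintype_card, Fintype.card_sum, Fintype.card_fin]; omega
  have hmul : Matrix.fromBlocks (0 : Matrix (Fin k) (Fin k) F) (1 : Matrix (Fin k) (Fin k) F) (1 : Matrix (Fin k) (Fin k) F) 0 *
      Matrix.fromBlocks (0 : Matrix (Fin k) (Fin k) F) (1 : Matrix (Fin k) (Fin k) F) (1 : Matrix (Fin k) (Fin k) F) 0 = 1 := by
    simp [fromBlocks_multiply, fromBlocks_one]
  have hswap : ∀ x : Fin k ⊕ Fin k → F,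
      sumQ Q Q (Matrix.fromBlocks (0 : Matrix (Fin k) (Fin k) F) (1 : Matrix (Fin k) (Fin k) F) (1 : Matrix (Fin k) (Fin k) F) 0 *ᵥ x) = sumQ Q Q x := fun x => by
    rw [fromBlocks_mulVec, sumQ_apply, sumQ_apply, Sum.elim_comp_inl, Sum.elim_comp_inr]
    simp [add_comm]
  let s : ↥(Cfsg.isometryGroup F ⇑(sumQ Q Q)) := ⟨⟨_, _, hmul, hmul⟩, fun x _ => hswap x⟩
  have hinv : Matrix.fromBlocks (mat _ g) 0 0 (1 : Matrix (Fin k) (Fin k) F) *
      Matrix.fromBlocks (mat _ g⁻¹) 0 0 1 = 1 := by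
    rw [fromBlocks_multiply]; simp only [Matrix.mul_zero, Matrix.zero_mul, add_zero, zero_add, Matrix.mul_one, ← mat_mul, mul_inv_cancel, inv_mul_cancel, mat_one, fromBlocks_one]
  have hinv' : Matrix.fromBlocks (mat _ g⁻¹) 0 0 (1 : Matrix (Fin k) (Fin k) F) *
      Matrix.fromBlocks (mat _ g) 0 0 1 = 1 := by
    rw [fromBlocks_multiply]; simp only [Matrix.mul_zero, Matrix.zero_mul, add_zero, zero_add, Matrix.mul_one, ← mat_mul, mul_inv_cancel, inv_mul_cancel, mat_one, fromBlocks_one]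
  have hleft : ∀ x : Fin k ⊕ Fin k → F,
      sumQ Q Q (Matrix.fromBlocks (mat _ g) 0 0 (1 : Matrix (Fin k) (Fin k) F) *ᵥ x) = sumQ Q Q x := fun x => by
    rw [fromBlocks_mulVec, sumQ_apply, sumQ_apply, Sum.elim_comp_inl, Sum.elim_comp_inr]
    simp [quad_mulVec]
  let y : ↥(Cfsg.isometryGroup F ⇑(sumQ Q Q)) := ⟨⟨_, _, hinv, hinv'⟩, fun x _ => hleft x⟩
  obtain ⟨vs, hvs⟩ := exists_isReflProd_finite (sumQ_nondegenerate hQ hQ) e2 y
  obtain ⟨ws, hws⟩ := exists_isReflProd_finite (sumQ_nondegenerate hQ hQ) e2 s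
  refine ⟨y * (s * y * s), (mem_omega_iff_even (sumQ_nondegenerate hQ hQ) e2
    (hvs.mul ((hws.mul hvs).mul hws))).2 ⟨⟨vs.length + ws.length, by simp; ring⟩, ?_⟩, ?_⟩
  · simp only [List.map_append, List.prod_append]
    exact ⟨(vs.map fun v => sumQ Q Q v).prod * (ws.map fun v => sumQ Q Q v).prod, by ring⟩
  · show Matrix.fromBlocks (mat _ g) 0 0 1 *
      (Matrix.fromBlocks 0 1 1 0 * Matrix.fromBlocks (mat _ g) 0 0 1 * Matrix.fromBlocks 0 1 1 0) = _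
    simp [fromBlocks_multiply]

end CfsgLib.OmegaOrbits
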